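import Groth.Prelude.Def_Koszul
import Groth.Agent.KFlatLib.PsiC
import Mathlib.Algebra.Homology.DerivedCategory.Linear
import Mathlib.Algebra.Category.ModuleCat.Projective

set_option autoImplicit false
set_option backward.isDefEq.respectTransparency false
universe u

open CategoryTheory CategoryTheory.Limits Pretriangulated

attribute [local instance] HasDerivedCategory.standard

namespace Groth.Agent.KoszulFactor

variable {A : Type u} [CommRing A]


/-- `A` placed in degree zero. -/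
noncomputable def A0 (A : Type u) [CommRing A] : DerivedCategory (ModuleCat.{u} A) :=
  (DerivedCategory.singleFunctor (ModuleCat.{u} A) 0).obj (ModuleCat.of A A)

noncomputable def KQ (l : List A) : (DerivedCategory (ModuleCat.{u} A)) := DerivedCategory.Q.obj (Koszul.koszul A l)

noncomputable def nilIso : A0 A ≅ KQ ([] : List A) :=
  Groth.Agent.KFlatLib.singleQ 0 (ModuleCat.of A A)

noncomputable def incl (f : A) (l : List A) : KQ l ⟶ KQ (f :: l) :=
  DerivedCategory.Q.map (CochainComplex.mappingCone.inr (f • 𝟙 (Koszul.koszul A l)))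

noncomputable def tMap : ∀ l : List A, A0 A ⟶ KQ l
  | [] => nilIso.hom
  | f :: l => tMap l ≫ incl f l

lemma exists_triangle (f : A) (l : List A) :
    ∃ δ : KQ (f :: l) ⟶ (KQ l)⟦(1 : ℤ)⟧,
      Triangle.mk (f • 𝟙 (KQ l)) (incl f l) δ ∈ distTriang (DerivedCategory (ModuleCat.{u} A)) := by
  have h := DerivedCategory.mappingCone_triangle_distinguished
    (φ := f • 𝟙 (Koszul.koszul A l))
  refine ⟨((DerivedCategory.Q.mapTriangle.obj (CochainComplex.mappingCone.triangle
    (f • 𝟙 (Koszul.koszul A l)))).mor₃), ?_⟩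
  refine isomorphic_distinguished _ h _ (Triangle.isoMk _ _ (Iso.refl _) (Iso.refl _) (Iso.refl _)
    ?_ ?_ ?_)
  · show (f • 𝟙 (KQ l)) ≫ 𝟙 _ = 𝟙 _ ≫ DerivedCategory.Q.map (f • 𝟙 (Koszul.koszul A l))
    rw [Functor.map_smul, CategoryTheory.Functor.map_id]
    exact (Category.comp_id _).trans (Category.id_comp _).symm
  · exact (Category.comp_id _).trans (Category.id_comp _).symm
  · show _ ≫ (𝟙 _)⟦(1 : ℤ)⟧' = 𝟙 _ ≫ _
    rw [CategoryTheory.Functor.map_id, Category.id_comp]
    exact Category.comp_id _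

/-- Comparison between the Koszul objects of `l^(a)` and `l^(b)` for `b ≤ a`. -/
lemma exists_transition (l : List A) {a b : ℕ} (h : b ≤ a) :
    ∃ u : KQ (l.map (· ^ a)) ⟶ KQ (l.map (· ^ b)),
      tMap (l.map (· ^ a)) ≫ u = tMap (l.map (· ^ b)) := by
  induction l with
  | nil => exact ⟨𝟙 _, Category.comp_id _⟩
  | cons f l ih =>
    obtain ⟨u, hu⟩ := ih
    obtain ⟨δa, ha⟩ := exists_triangle (f ^ a) (l.map (· ^ a))
    obtain ⟨δb, hb⟩ := exists_triangle (f ^ b) (l.map (· ^ b))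
    obtain ⟨v, hv, -⟩ := complete_distinguished_triangle_morphism _ _ ha hb
      (f ^ (a - b) • u) u (by
        show (f ^ a • 𝟙 _) ≫ u = (f ^ (a - b) • u) ≫ (f ^ b • 𝟙 _)
        rw [Linear.smul_comp, Category.id_comp, Linear.smul_comp, Linear.comp_smul,
          Category.comp_id, smul_smul, ← pow_add, Nat.sub_add_cancel h])
    refine ⟨v, ?_⟩
    show (tMap (l.map (· ^ a)) ≫ incl (f ^ a) (l.map (· ^ a))) ≫ v =
      tMap (l.map (· ^ b)) ≫ incl (f ^ b) (l.map (· ^ b))
    rw [Category.assoc]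
    erw [hv]
    rw [← Category.assoc, hu]
    rfl

/-- `Hom(A, M) = H⁰ M`, compatibly with scalars. -/
lemma exists_pow_smul_A0 (f : A) (M : (DerivedCategory (ModuleCat.{u} A)))
    (hM : ∀ x : (DerivedCategory.homologyFunctor (ModuleCat.{u} A) 0).obj M,
      ∃ n : ℕ, f ^ n • x = 0) (φ : A0 A ⟶ M) : ∃ n : ℕ, f ^ n • φ = 0 := by
  obtain ⟨n, hn⟩ := hM ((KFlatLib.psiC 0 (ModuleCat.of A A) M φ).hom (1 : A))
  haveI : Projective (ModuleCat.of A A) := (IsProjective.iff_projective (R := A) A).1 inferInstance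
  refine ⟨n, (KFlatLib.bijective_psiC_of_projective 0 M).1 ?_⟩
  have hz : KFlatLib.psiC 0 (ModuleCat.of A A) M (0 : A0 A ⟶ M) = 0 := by
    exact (congrArg _ (Functor.map_zero _ _ _)).trans comp_zero
  have hs : f ^ n • φ =
      (DerivedCategory.singleFunctor (ModuleCat.{u} A) 0).map (f ^ n • 𝟙 (ModuleCat.of A A)) ≫ φ := by
    rw [Functor.map_smul, CategoryTheory.Functor.map_id, Linear.smul_comp, Category.id_comp]
  rw [hz, hs]
  erw [KFlatLib.psiC_single_map]
  refine ModuleCat.hom_ext (LinearMap.ext_ring ?_)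
  show (KFlatLib.psiC 0 (ModuleCat.of A A) M φ).hom (f ^ n • (1 : A)) = 0
  rw [map_smul]
  exact hn

/-- Powers of `f` kill the cohomology of `M` in the degree `i`. -/
def Tors (f : A) (M : (DerivedCategory (ModuleCat.{u} A))) (i : ℤ) : Prop :=
  ∀ x : (DerivedCategory.homologyFunctor (ModuleCat.{u} A) i).obj M, ∃ n : ℕ, f ^ n • x = 0

lemma tors_of_iso {f : A} {P Q : ModuleCat.{u} A} (e : P ≅ Q)
    (h : ∀ x : P, ∃ n : ℕ, f ^ n • x = 0) (x : Q) : ∃ n : ℕ, f ^ n • x = 0 := by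
  obtain ⟨n, hn⟩ := h (e.inv.hom x)
  refine ⟨n, e.toLinearEquiv.symm.injective ?_⟩
  rw [map_smul, map_zero]
  exact hn

lemma tors_shift {f : A} {M : (DerivedCategory (ModuleCat.{u} A))} {d i j : ℤ} (hij : d + i = j) (h : Tors f M j) :
    Tors f (M⟦d⟧) i :=
  fun x => tors_of_iso
    ((((DerivedCategory.homologyFunctor (ModuleCat.{u} A) 0).shiftIso d i j hij).app M).symm) h x

/-- Every map from `K(l)` to `M` is killed by a power of `f` if the cohomology of `M` in
degrees `[-length l, 0]` is `f`-power torsion. -/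
lemma exists_pow_smul_KQ (f : A) : ∀ (l : List A) (M : (DerivedCategory (ModuleCat.{u} A))),
    (∀ i : ℤ, -(l.length : ℤ) ≤ i → i ≤ 0 → Tors f M i) →
    ∀ φ : KQ l ⟶ M, ∃ n : ℕ, f ^ n • φ = 0 := by
  intro l
  induction l with
  | nil =>
    intro M hM φ
    obtain ⟨n, hn⟩ := exists_pow_smul_A0 f M (hM 0 (by simp) le_rfl) (nilIso.hom ≫ φ)
    refine ⟨n, (cancel_epi nilIso.hom).1 ?_⟩
    rw [Linear.comp_smul, hn, comp_zero]
  | cons c l ih =>
    intro M hM φ
    have hlen : ((c :: l).length : ℤ) = l.length + 1 := by simp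
    obtain ⟨n, hn⟩ := ih M (fun i h1 h2 => hM i (by omega) h2) (incl c l ≫ φ)
    obtain ⟨δ, hT⟩ := exists_triangle c l
    obtain ⟨χ, hχ⟩ := Triangle.yoneda_exact₃ _ hT (f ^ n • φ) (by
      show incl c l ≫ (f ^ n • φ) = 0
      rw [Linear.comp_smul, hn])
    let e := (shiftFunctorCompIsoId (DerivedCategory (ModuleCat.{u} A)) (-1 : ℤ) 1 (by omega)).app M
    obtain ⟨χ', hχ'⟩ := (shiftFunctor (DerivedCategory (ModuleCat.{u} A)) (1 : ℤ)).map_surjective (χ ≫ e.inv)
    obtain ⟨m, hm⟩ := ih (M⟦(-1 : ℤ)⟧) (fun i h1 h2 =>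
      tors_shift (d := -1) (j := i - 1) (by omega) (hM (i - 1) (by omega) (by omega))) χ'
    refine ⟨m + n, ?_⟩
    have hz : f ^ m • (χ ≫ e.inv) = 0 := by
      rw [← hχ', ← Functor.map_smul, hm, Functor.map_zero]
    have hzero : f ^ m • χ = 0 := by
      rw [← cancel_mono e.inv, Linear.smul_comp, hz, zero_comp]
    rw [pow_add, mul_smul]
    erw [hχ]
    rw [← Linear.comp_smul]
    erw [hzero]
    exact comp_zero

/-- A class in `H⁰ M` which is torsion in all the `f ∈ l` extends to some Koszul object. -/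
lemma exists_factor : ∀ (l : List A) (M : (DerivedCategory (ModuleCat.{u} A))),
    (∀ f ∈ l, ∀ i : ℤ, -(l.length : ℤ) < i → i ≤ 0 → Tors f M i) →
    ∀ s : A0 A ⟶ M, ∃ (e : ℕ) (ψ : KQ (l.map (· ^ e)) ⟶ M), tMap (l.map (· ^ e)) ≫ ψ = s := by
  intro l
  induction l with
  | nil =>
    intro M _ s
    exact ⟨0, nilIso.inv ≫ s, nilIso.hom_inv_id_assoc s⟩
  | cons c l ih =>
    intro M hM s
    have hlen : ((c :: l).length : ℤ) = l.length + 1 := by simp
    obtain ⟨e, ψ, hψ⟩ := ih M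
      (fun f hf i h1 h2 => hM f (List.mem_cons_of_mem _ hf) i (by omega) h2) s
    obtain ⟨n, hn⟩ := exists_pow_smul_KQ c (l.map (· ^ e)) M
      (fun i h1 h2 => by
        refine hM c List.mem_cons_self i ?_ h2
        rw [List.length_map] at h1
        omega) ψ
    obtain ⟨u, hu⟩ := exists_transition l (a := max e n) (b := e) (le_max_left _ _)
    let k := max e n
    obtain ⟨δ, hT⟩ := exists_triangle (c ^ k) (l.map (· ^ k))
    obtain ⟨θ, hθ⟩ := Triangle.yoneda_exact₂ _ hT (u ≫ ψ) (by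
      show (c ^ k • 𝟙 (KQ (l.map (· ^ k)))) ≫ (u ≫ ψ : KQ (l.map (· ^ k)) ⟶ M) = 0
      refine (Linear.smul_comp _ _ _ _ _ _).trans ?_
      refine (congrArg (c ^ k • ·) (Category.id_comp _)).trans ?_
      refine (Linear.comp_smul _ _ _ u _ ψ).symm.trans ?_
      have : c ^ k • ψ = 0 := by
        rw [show k = (k - n) + n from (Nat.sub_add_cancel (le_max_right _ _)).symm, pow_add,
          mul_smul, hn, smul_zero]
      exact (congrArg (u ≫ ·) this).trans comp_zero)
    refine ⟨k, θ, ?_⟩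
    show (tMap (l.map (· ^ k)) ≫ incl (c ^ k) (l.map (· ^ k))) ≫ θ = s
    rw [Category.assoc]
    erw [← hθ]
    rw [← Category.assoc, hu, hψ]

end Groth.Agent.KoszulFactor
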